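import Cfsg.Prelude.Def_BaumannBlocks
import Mathlib.GroupTheory.Index

/-!
Subgroups `R` with `|R| |C(R)|` or `|R| |Z(R)|` largest (Chermak–Delgado, centrally large subgroups).
-/

set_option autoImplicit false
open scoped Pointwise

namespace Cfsg.Agent.CLarge

variable {G : Type*} [Group G]

theorem centralizer_sup (Q R : Subgroup G) :
    Subgroup.centralizer ((Q ⊔ R : Subgroup G) : Set G) =
      Subgroup.centralizer (Q : Set G) ⊓ Subgroup.centralizer (R : Set G) := by
  refine le_antisymm (le_inf (Subgroup.centralizer_le (SetLike.coe_subset_coe.mpr le_sup_left))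
    (Subgroup.centralizer_le (SetLike.coe_subset_coe.mpr le_sup_right))) ?_
  rw [Subgroup.le_centralizer_iff, sup_le_iff]
  exact ⟨Subgroup.le_centralizer_iff.mp inf_le_left, Subgroup.le_centralizer_iff.mp inf_le_right⟩

theorem le_centralizer_centralizer' (Q : Subgroup G) :
    Q ≤ Subgroup.centralizer ((Subgroup.centralizer (Q : Set G) : Subgroup G) : Set G) :=
  Subgroup.le_centralizer_iff.mp le_rfl

/-- A product set of two subgroups is a subgroup as soon as it is big enough. -/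
theorem card_mul_card_le [Finite G] (Q R : Subgroup G) :
    Nat.card Q * Nat.card R ≤ Nat.card ↥(Q ⊔ R) * Nat.card ↥(Q ⊓ R) := by
  have h1 : Nat.card ↥(Q ⊓ R) * R.relIndex Q = Nat.card Q := by
    rw [← Subgroup.inf_relIndex_left Q R, ← Nat.card_congr
      (Subgroup.subgroupOfEquivOfLe (inf_le_left : Q ⊓ R ≤ Q)).toEquiv]
    exact Subgroup.card_mul_index _
  have h2 : Nat.card R * R.relIndex (Q ⊔ R) = Nat.card ↥(Q ⊔ R) := by
    rw [← Nat.card_congr (Subgroup.subgroupOfEquivOfLe (le_sup_right : R ≤ Q ⊔ R)).toEquiv]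
    exact Subgroup.card_mul_index _
  have h3 : R.relIndex Q ≤ R.relIndex (Q ⊔ R) :=
    Subgroup.relIndex_le_of_le_right le_sup_left Subgroup.index_ne_zero_of_finite
  rw [← h1, ← h2]
  calc Nat.card ↥(Q ⊓ R) * R.relIndex Q * Nat.card R
      = Nat.card R * R.relIndex Q * Nat.card ↥(Q ⊓ R) := by ring
    _ ≤ Nat.card R * R.relIndex (Q ⊔ R) * Nat.card ↥(Q ⊓ R) := by gcongr

theorem coe_sup_eq_mul_of_card [Finite G] (Q R : Subgroup G)
    (h : Nat.card Q * Nat.card R = Nat.card ↥(Q ⊔ R) * Nat.card ↥(Q ⊓ R)) :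
    ((Q ⊔ R : Subgroup G) : Set G) = (Q : Set G) * (R : Set G) := by
  have h1 : Nat.card ↥(Q ⊓ R) * R.relIndex Q = Nat.card Q := by
    rw [← Subgroup.inf_relIndex_left Q R, ← Nat.card_congr
      (Subgroup.subgroupOfEquivOfLe (inf_le_left : Q ⊓ R ≤ Q)).toEquiv]
    exact Subgroup.card_mul_index _
  have h2 : Nat.card R * R.relIndex (Q ⊔ R) = Nat.card ↥(Q ⊔ R) := by
    rw [← Nat.card_congr (Subgroup.subgroupOfEquivOfLe (le_sup_right : R ≤ Q ⊔ R)).toEquiv]
    exact Subgroup.card_mul_index _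
  have h3 : R.relIndex Q = R.relIndex (Q ⊔ R) := by
    refine Nat.eq_of_mul_eq_mul_left (Nat.mul_pos (Nat.card_pos (α := ↥(Q ⊓ R)))
      (Nat.card_pos (α := R))) ?_
    calc Nat.card ↥(Q ⊓ R) * Nat.card R * R.relIndex Q
        = (Nat.card ↥(Q ⊓ R) * R.relIndex Q) * Nat.card R := by ring
      _ = (Nat.card R * R.relIndex (Q ⊔ R)) * Nat.card ↥(Q ⊓ R) := by rw [h1, h2, h]
      _ = _ := by ring
  let f := Subgroup.quotientSubgroupOfEmbeddingOfLE R (le_sup_left : Q ≤ Q ⊔ R)
  have hf : Function.Surjective f := by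
    refine ((Nat.bijective_iff_injective_and_card _).mpr ⟨f.injective, ?_⟩).2
    exact h3
  refine Set.Subset.antisymm (fun x hx => ?_) ?_
  · obtain ⟨y, hy⟩ := hf (QuotientGroup.mk (⟨x, hx⟩ : ↥(Q ⊔ R)))
    induction y using QuotientGroup.induction_on with
    | H q =>
      have := QuotientGroup.eq.mp hy
      refine ⟨(q : G), q.2, (q : G)⁻¹ * x, this, ?_⟩
      simp
  · rintro _ ⟨q, hq, r, hr, rfl⟩
    exact mul_mem (Subgroup.mem_sup_left hq) (Subgroup.mem_sup_right hr)

theorem exists_mul_of_commute {Q R : Subgroup G} (h : R ≤ Subgroup.centralizer (Q : Set G)) {x : G}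
    (hx : x ∈ Q ⊔ R) : ∃ q ∈ Q, ∃ r ∈ R, q * r = x := by
  have h' : Q ≤ Subgroup.normalizer (R : Set G) :=
    (Subgroup.le_centralizer_iff.mp h).trans (Subgroup.centralizer_le_normalizer _)
  rw [← SetLike.mem_coe, Subgroup.coe_mul_of_left_le_normalizer_right _ _ h'] at hx
  exact hx

/-! ### the measure `|R| |C(R)|` -/

theorem bddAbove_centralizerProducts [Finite G] : BddAbove
    {k : ℕ | ∃ R : Subgroup G, Nat.card ↥R * Nat.card ↥(Subgroup.centralizer (R : Set G)) = k} :=
  (Set.finite_range fun R : Subgroup G =>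
    Nat.card ↥R * Nat.card ↥(Subgroup.centralizer (R : Set G))).bddAbove

theorem le_maxCentralizerProduct [Finite G] (R : Subgroup G) :
    Nat.card ↥R * Nat.card ↥(Subgroup.centralizer (R : Set G)) ≤ Cfsg.maxCentralizerProduct G :=
  le_csSup bddAbove_centralizerProducts (Set.mem_ofPred.mpr ⟨R, rfl⟩)

theorem exists_isCentralizerLarge [Finite G] : ∃ R : Subgroup G, Cfsg.IsCentralizerLarge R :=
  Set.mem_ofPred.mp (Nat.sSup_mem (Exists.intro _ (Set.mem_ofPred.mpr ⟨⊥, rfl⟩)) bddAbove_centralizerProducts)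

theorem isCentralizerLarge_of_le [Finite G] {R : Subgroup G}
    (h : Cfsg.maxCentralizerProduct G ≤ Nat.card ↥R * Nat.card ↥(Subgroup.centralizer (R : Set G))) :
    Cfsg.IsCentralizerLarge R :=
  le_antisymm (le_maxCentralizerProduct R) h

theorem isCentralizerLarge_centralizer [Finite G] {Q : Subgroup G} (hQ : Cfsg.IsCentralizerLarge Q) :
    Cfsg.IsCentralizerLarge (Subgroup.centralizer (Q : Set G)) ∧
      Subgroup.centralizer ((Subgroup.centralizer (Q : Set G) : Subgroup G) : Set G) = Q := by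
  have hle := le_centralizer_centralizer' Q
  have h1 := le_maxCentralizerProduct (Subgroup.centralizer (Q : Set G))
  have h2 : Nat.card ↥(Subgroup.centralizer ((Subgroup.centralizer (Q : Set G) : Subgroup G) : Set G))
      ≤ Nat.card ↥Q := by
    rw [← hQ, mul_comm (Nat.card ↥Q)] at h1
    exact Nat.le_of_mul_le_mul_left h1 Nat.card_pos
  have h3 := (Subgroup.eq_of_le_of_card_ge hle h2).symm
  exact ⟨by rw [Cfsg.IsCentralizerLarge, h3, mul_comm]; exact hQ, h3⟩

/-- The Chermak–Delgado lattice: members of largest measure are closed under join and meet, and permute. -/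
theorem chermakDelgado [Finite G] {Q R : Subgroup G} (hQ : Cfsg.IsCentralizerLarge Q)
    (hR : Cfsg.IsCentralizerLarge R) :
    ((Q ⊔ R : Subgroup G) : Set G) = (Q : Set G) * (R : Set G) ∧
      Nat.card Q * Nat.card R = Nat.card ↥(Q ⊔ R) * Nat.card ↥(Q ⊓ R) ∧
      Cfsg.IsCentralizerLarge (Q ⊔ R) ∧ Cfsg.IsCentralizerLarge (Q ⊓ R) ∧
      ((Subgroup.centralizer (Q : Set G) ⊔ Subgroup.centralizer (R : Set G) : Subgroup G) : Set G) =
        (Subgroup.centralizer (Q : Set G) : Set G) * (Subgroup.centralizer (R : Set G) : Set G) ∧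
      Subgroup.centralizer ((Q ⊓ R : Subgroup G) : Set G) =
        Subgroup.centralizer (Q : Set G) ⊔ Subgroup.centralizer (R : Set G) := by
  have hle : Subgroup.centralizer (Q : Set G) ⊔ Subgroup.centralizer (R : Set G) ≤
      Subgroup.centralizer ((Q ⊓ R : Subgroup G) : Set G) :=
    sup_le (Subgroup.centralizer_le (SetLike.coe_subset_coe.mpr inf_le_left))
      (Subgroup.centralizer_le (SetLike.coe_subset_coe.mpr inf_le_right))
  have hC := Subgroup.card_le_of_le hle
  have h1 := card_mul_card_le Q R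
  have h2 := card_mul_card_le (Subgroup.centralizer (Q : Set G)) (Subgroup.centralizer (R : Set G))
  have h3 := le_maxCentralizerProduct (Q ⊔ R)
  have h4 := le_maxCentralizerProduct (Q ⊓ R)
  rw [← centralizer_sup] at h2
  rw [Cfsg.IsCentralizerLarge] at hQ hR
  set f := Cfsg.maxCentralizerProduct G
  set q := Nat.card ↥Q
  set r := Nat.card ↥R
  set cq := Nat.card ↥(Subgroup.centralizer (Q : Set G))
  set cr := Nat.card ↥(Subgroup.centralizer (R : Set G))
  set j := Nat.card ↥(Q ⊔ R) with hjdef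
  set i := Nat.card ↥(Q ⊓ R) with hidef
  set cj := Nat.card ↥(Subgroup.centralizer ((Q ⊔ R : Subgroup G) : Set G))
  set s := Nat.card ↥(Subgroup.centralizer (Q : Set G) ⊔ Subgroup.centralizer (R : Set G) : Subgroup G)
  set ci := Nat.card ↥(Subgroup.centralizer ((Q ⊓ R : Subgroup G) : Set G))
  have hf : 0 < f := by rw [← hQ]; exact Nat.mul_pos Nat.card_pos Nat.card_pos
  have hj : 0 < j := Nat.card_pos
  have hi : 0 < i := Nat.card_pos
  have hcj : 0 < cj := Nat.card_pos
  have hci : 0 < ci := Nat.card_pos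
  have hff : f * f = q * r * (cq * cr) := by
    calc f * f = (q * cq) * (r * cr) := by rw [hQ, hR]
      _ = _ := by ring
  have key : f * f ≤ j * i * (s * cj) := by
    calc f * f = q * r * (cq * cr) := hff
      _ ≤ _ := Nat.mul_le_mul h1 h2
  have key2 : j * i * (s * cj) ≤ j * i * (ci * cj) := by gcongr
  have key3 : j * i * (ci * cj) ≤ f * f := by
    calc j * i * (ci * cj) = (j * cj) * (i * ci) := by ring
      _ ≤ _ := Nat.mul_le_mul h3 h4
  have e1 : j * cj = f := by
    have : f * f ≤ (j * cj) * f := by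
      calc f * f ≤ j * i * (ci * cj) := key.trans key2
        _ = (j * cj) * (i * ci) := by ring
        _ ≤ _ := Nat.mul_le_mul_left _ h4
    exact le_antisymm h3 (Nat.le_of_mul_le_mul_right this hf)
  have e2 : i * ci = f := by
    have : f * f ≤ f * (i * ci) := by
      calc f * f ≤ j * i * (ci * cj) := key.trans key2
        _ = (j * cj) * (i * ci) := by ring
        _ ≤ _ := Nat.mul_le_mul_right _ h3
    exact le_antisymm h4 (Nat.le_of_mul_le_mul_left this hf)
  have e3 : s = ci := by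
    refine le_antisymm hC ?_
    have := key3.trans key
    exact Nat.le_of_mul_le_mul_right (Nat.le_of_mul_le_mul_left this (Nat.mul_pos hj hi)) hcj
  have e4 : q * r = j * i := by
    refine le_antisymm h1 ?_
    have : j * i * (s * cj) ≤ q * r * (s * cj) := by
      calc j * i * (s * cj) ≤ f * f := key2.trans key3
        _ = q * r * (cq * cr) := hff
        _ ≤ _ := Nat.mul_le_mul_left _ h2
    exact Nat.le_of_mul_le_mul_right this (Nat.mul_pos Nat.card_pos hcj)
  refine ⟨coe_sup_eq_mul_of_card Q R e4, e4, e1, e2, ?_, (Subgroup.eq_of_le_of_card_ge hle e3.ge).symm⟩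
  refine coe_sup_eq_mul_of_card _ _ (le_antisymm (by rw [← centralizer_sup]; exact h2) ?_)
  rw [← centralizer_sup]
  refine Nat.le_of_mul_le_mul_left (show q * r * (s * cj) ≤ q * r * (cq * cr) from ?_)
    (Nat.mul_pos Nat.card_pos Nat.card_pos)
  calc q * r * (s * cj) ≤ j * i * (s * cj) := Nat.mul_le_mul_right _ h1
    _ ≤ f * f := key2.trans key3
    _ = _ := hff

theorem isCentralizerLarge_map_equiv [Finite G] {Q : Subgroup G} (hQ : Cfsg.IsCentralizerLarge Q)
    (e : G ≃* G) : Cfsg.IsCentralizerLarge (Q.map e.toMonoidHom) := by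
  have h : (Subgroup.centralizer (Q : Set G)).map e.toMonoidHom ≤
      Subgroup.centralizer ((Q.map e.toMonoidHom : Subgroup G) : Set G) := by
    rintro _ ⟨c, hc, rfl⟩ _ ⟨q, hq, rfl⟩
    rw [← map_mul, ← map_mul, hc q hq]
  have h' := Subgroup.card_le_of_le h
  rw [Subgroup.card_map_of_injective e.injective] at h'
  refine isCentralizerLarge_of_le ?_
  rw [← hQ, Subgroup.card_map_of_injective e.injective]
  gcongr

/-! ### centrally large subgroups -/

theorem map_center_eq (R : Subgroup G) :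
    (Subgroup.center ↥R).map R.subtype = R ⊓ Subgroup.centralizer (R : Set G) := by
  ext x
  constructor
  · rintro ⟨y, hy, rfl⟩
    exact ⟨y.2, fun r hr => congrArg Subtype.val (Subgroup.mem_center_iff.mp hy ⟨r, hr⟩)⟩
  · rintro ⟨hxR, hxC⟩
    exact ⟨⟨x, hxR⟩, Subgroup.mem_center_iff.mpr fun r => Subtype.ext (hxC r r.2), rfl⟩

theorem card_center_eq (R : Subgroup G) :
    Nat.card ↥(Subgroup.center ↥R) = Nat.card ↥(R ⊓ Subgroup.centralizer (R : Set G)) := by
  rw [← map_center_eq, Subgroup.card_map_of_injective R.subtype_injective]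

theorem bddAbove_centralProducts [Finite G] : BddAbove
    {k : ℕ | ∃ R : Subgroup G, Nat.card ↥R * Nat.card ↥(Subgroup.center ↥R) = k} :=
  (Set.finite_range fun R : Subgroup G => Nat.card ↥R * Nat.card ↥(Subgroup.center ↥R)).bddAbove

theorem le_maxCentralProduct [Finite G] (R : Subgroup G) :
    Nat.card ↥R * Nat.card ↥(Subgroup.center ↥R) ≤ Cfsg.maxCentralProduct G :=
  le_csSup bddAbove_centralProducts (Set.mem_ofPred.mpr ⟨R, rfl⟩)

theorem exists_isCentrallyLarge [Finite G] : ∃ R : Subgroup G, Cfsg.IsCentrallyLarge R :=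
  Set.mem_ofPred.mp (Nat.sSup_mem (Exists.intro _ (Set.mem_ofPred.mpr ⟨⊥, rfl⟩)) bddAbove_centralProducts)

theorem card_center_le [Finite G] (R : Subgroup G) :
    Nat.card ↥(Subgroup.center ↥R) ≤ Nat.card ↥(Subgroup.centralizer (R : Set G)) := by
  rw [card_center_eq]
  exact Subgroup.card_le_of_le inf_le_right

theorem card_center_eq_of_centralizer_le {R : Subgroup G}
    (h : Subgroup.centralizer (R : Set G) ≤ R) :
    Nat.card ↥(Subgroup.center ↥R) = Nat.card ↥(Subgroup.centralizer (R : Set G)) := by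
  rw [card_center_eq, inf_eq_right.mpr h]

theorem maxCentralProduct_eq [Finite G] :
    Cfsg.maxCentralProduct G = Cfsg.maxCentralizerProduct G := by
  apply le_antisymm
  · obtain ⟨R, hR⟩ := exists_isCentrallyLarge (G := G)
    rw [← hR]
    exact (Nat.mul_le_mul_left _ (card_center_le R)).trans (le_maxCentralizerProduct R)
  · obtain ⟨R, hR⟩ := exists_isCentralizerLarge (G := G)
    obtain ⟨-, -, hT, -⟩ := chermakDelgado hR (isCentralizerLarge_centralizer hR).1
    have hC : Subgroup.centralizer ((R ⊔ Subgroup.centralizer (R : Set G) : Subgroup G) : Set G) ≤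
        R ⊔ Subgroup.centralizer (R : Set G) := by
      rw [centralizer_sup]
      exact inf_le_left.trans le_sup_right
    rw [← hT, ← card_center_eq_of_centralizer_le hC]
    exact le_maxCentralProduct _

theorem isCentrallyLarge_iff [Finite G] {Q : Subgroup G} :
    Cfsg.IsCentrallyLarge Q ↔
      Cfsg.IsCentralizerLarge Q ∧ Subgroup.centralizer (Q : Set G) ≤ Q := by
  constructor
  · intro h
    have h1 : Cfsg.IsCentralizerLarge Q := by
      refine isCentralizerLarge_of_le ?_
      rw [← maxCentralProduct_eq, ← h]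
      exact Nat.mul_le_mul_left _ (card_center_le Q)
    refine ⟨h1, ?_⟩
    have h2 : Nat.card ↥(Subgroup.center ↥Q) = Nat.card ↥(Subgroup.centralizer (Q : Set G)) := by
      refine Nat.eq_of_mul_eq_mul_left (Nat.card_pos (α := Q)) ?_
      rw [h, h1, maxCentralProduct_eq]
    rw [card_center_eq] at h2
    exact inf_eq_right.mp (Subgroup.eq_of_le_of_card_ge inf_le_right h2.ge)
  · rintro ⟨h1, h2⟩
    rw [Cfsg.IsCentrallyLarge, card_center_eq_of_centralizer_le h2, maxCentralProduct_eq]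
    exact h1

theorem isCentrallyLarge_sup [Finite G] {Q R : Subgroup G} (hQ : Cfsg.IsCentrallyLarge Q)
    (hR : Cfsg.IsCentrallyLarge R) : Cfsg.IsCentrallyLarge (Q ⊔ R) := by
  rw [isCentrallyLarge_iff] at *
  refine ⟨(chermakDelgado hQ.1 hR.1).2.2.1, ?_⟩
  rw [centralizer_sup]
  exact inf_le_left.trans (hQ.2.trans le_sup_left)

theorem exists_isMinimalCentrallyLarge_le [Finite G] {Q : Subgroup G} (hQ : Cfsg.IsCentrallyLarge Q) :
    ∃ R : Subgroup G, R ≤ Q ∧ Cfsg.IsMinimalCentrallyLarge R := by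
  obtain ⟨R, ⟨hR, hle⟩, hmin⟩ :=
    Set.Finite.exists_minimal (Set.toFinite {R : Subgroup G | Cfsg.IsCentrallyLarge R ∧ R ≤ Q})
      ⟨Q, hQ, le_rfl⟩
  exact ⟨R, hle, hR, fun R' hR' hCL => le_antisymm hR' (hmin ⟨hCL, hR'.trans hle⟩ hR')⟩

theorem isCentrallyLarge_sSup [Finite G] {S : Set (Subgroup G)} (hS : ∀ R ∈ S, Cfsg.IsCentrallyLarge R)
    (hne : S.Nonempty) : Cfsg.IsCentrallyLarge (sSup S) := by
  obtain ⟨R₀, hR₀⟩ := hne
  obtain ⟨L, ⟨hL, hle⟩, hmax⟩ :=
    Set.Finite.exists_maximal (Set.toFinite {L : Subgroup G | Cfsg.IsCentrallyLarge L ∧ L ≤ sSup S})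
      ⟨R₀, hS R₀ hR₀, le_sSup hR₀⟩
  have : sSup S ≤ L := sSup_le fun R hR =>
    le_trans le_sup_right (hmax ⟨isCentrallyLarge_sup hL (hS R hR), sup_le hle (le_sSup hR)⟩ le_sup_left)
  rwa [le_antisymm this hle]

theorem isCentrallyLarge_centrallyLargeJoin [Finite G] :
    Cfsg.IsCentrallyLarge (Cfsg.centrallyLargeJoin G) :=
  isCentrallyLarge_sSup (fun _ h => h) exists_isCentrallyLarge

theorem isCentrallyLarge_minimalCentrallyLargeJoin [Finite G] :
    Cfsg.IsCentrallyLarge (Cfsg.minimalCentrallyLargeJoin G) := by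
  obtain ⟨Q, hQ⟩ := exists_isCentrallyLarge (G := G)
  obtain ⟨R, -, hR⟩ := exists_isMinimalCentrallyLarge_le hQ
  exact isCentrallyLarge_sSup (fun _ h => h.1) ⟨R, hR⟩

/-! ### abelian subgroups of largest order -/

theorem isMulCommutative_iff_le_centralizer {A : Subgroup G} :
    IsMulCommutative ↥A ↔ A ≤ Subgroup.centralizer (A : Set G) := by
  constructor
  · intro h x hx y hy
    exact congrArg Subtype.val (h.is_comm.comm (⟨y, hy⟩ : A) ⟨x, hx⟩)
  · intro h
    exact ⟨⟨fun a b => Subtype.ext (h b.2 a a.2)⟩⟩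

theorem centralizer_eq_of_mem_maxAbelian [Finite G] {A : Subgroup G}
    (hA : A ∈ Cfsg.maxAbelianSubgroups G) : Subgroup.centralizer (A : Set G) = A := by
  have hab := isMulCommutative_iff_le_centralizer.mp hA.1
  refine le_antisymm (fun x hx => ?_) hab
  have hB : IsMulCommutative ↥(A ⊔ Subgroup.zpowers x : Subgroup G) := by
    rw [isMulCommutative_iff_le_centralizer, centralizer_sup]
    have h1 : Subgroup.zpowers x ≤ Subgroup.centralizer (A : Set G) := Subgroup.zpowers_le.mpr hx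
    refine le_inf (sup_le hab h1) (sup_le (Subgroup.le_centralizer_iff.mp h1) ?_)
    intro y hy z hz
    obtain ⟨m, rfl⟩ := Subgroup.mem_zpowers_iff.mp hy
    obtain ⟨n, rfl⟩ := Subgroup.mem_zpowers_iff.mp hz
    exact zpow_mul_comm x n m
  have h := Subgroup.eq_of_le_of_card_ge (le_sup_left : A ≤ A ⊔ Subgroup.zpowers x) (hA.2 _ hB)
  exact h ▸ Subgroup.mem_sup_right (Subgroup.mem_zpowers x)

theorem exists_mem_maxAbelian (G : Type*) [Group G] [Finite G] :
    (Cfsg.maxAbelianSubgroups G).Nonempty := by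
  obtain ⟨A, hA, hmax⟩ := Set.exists_max_image {A : Subgroup G | IsMulCommutative ↥A}
    (fun A => Nat.card ↥A) (Set.toFinite _) ⟨⊥, isMulCommutative_iff_le_centralizer.mpr bot_le⟩
  exact ⟨A, hA, fun B hB => hmax B hB⟩

theorem sup_maxAbelian [Finite G] {Q A : Subgroup G} (hQ : Cfsg.IsCentrallyLarge Q)
    (hA : A ∈ Cfsg.maxAbelianSubgroups G) :
    ((Q ⊔ A : Subgroup G) : Set G) = (Q : Set G) * (A : Set G) ∧ Cfsg.IsCentrallyLarge (Q ⊔ A) ∧
      (Subgroup.centralizer (Q : Set G) ⊔ (Q ⊓ A)) ∈ Cfsg.maxAbelianSubgroups G := by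
  obtain ⟨hQm, hZQ⟩ := isCentrallyLarge_iff.mp hQ
  have hCA := centralizer_eq_of_mem_maxAbelian hA
  set Z := Subgroup.centralizer (Q : Set G) with hZdef
  have hCR : Subgroup.centralizer ((Q ⊔ A : Subgroup G) : Set G) = Z ⊓ A := by
    rw [centralizer_sup, hCA]
  have hX : IsMulCommutative ↥(Z ⊔ (Q ⊓ A) : Subgroup G) := by
    rw [isMulCommutative_iff_le_centralizer, centralizer_sup]
    refine le_inf (sup_le ?_ ?_) (sup_le ?_ ?_)
    · exact hZdef ▸ Subgroup.centralizer_le (SetLike.coe_subset_coe.mpr hZQ)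
    · exact Subgroup.le_centralizer_iff.mp
        (hZdef ▸ Subgroup.centralizer_le (SetLike.coe_subset_coe.mpr inf_le_left))
    · exact hZdef ▸ Subgroup.centralizer_le (SetLike.coe_subset_coe.mpr inf_le_left)
    · exact (inf_le_right.trans hCA.ge).trans (Subgroup.centralizer_le (SetLike.coe_subset_coe.mpr inf_le_right))
  have hI : Z ⊓ (Q ⊓ A) = Z ⊓ A := by
    rw [← inf_assoc, inf_eq_left.mpr hZQ]
  have a := card_mul_card_le Q A
  have b := card_mul_card_le Z (Q ⊓ A)
  rw [hI] at b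
  have c := hA.2 _ hX
  have d := le_maxCentralizerProduct (Q ⊔ A)
  rw [hCR, ← hQm] at d
  set q := Nat.card ↥Q
  set z := Nat.card ↥Z
  set i := Nat.card ↥(Q ⊓ A)
  set x := Nat.card ↥(Z ⊔ (Q ⊓ A) : Subgroup G)
  set w := Nat.card ↥(Z ⊓ A)
  set r := Nat.card ↥(Q ⊔ A)
  set n := Nat.card ↥A
  have hq : 0 < q := Nat.card_pos
  have hi : 0 < i := Nat.card_pos
  have hw : 0 < w := Nat.card_pos
  have t1 : q * (z * i) ≤ q * (x * w) := Nat.mul_le_mul_left _ b
  have t2 : q * (x * w) ≤ q * n * w := by rw [← mul_assoc]; gcongr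
  have t3 : q * n * w ≤ r * i * w := Nat.mul_le_mul_right _ a
  have t4 : r * i * w ≤ q * z * i := by rw [mul_right_comm]; exact Nat.mul_le_mul_right _ d
  have e1 : q * n = r * i :=
    le_antisymm a (Nat.le_of_mul_le_mul_right
      (t4.trans ((mul_assoc q z i).le.trans (t1.trans t2))) hw)
  have e2 : r * w = q * z := by
    refine le_antisymm d (Nat.le_of_mul_le_mul_right ?_ hi)
    rw [mul_right_comm r w i, mul_assoc q z i]
    exact t1.trans (t2.trans t3)
  have e3 : x = n := by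
    have : q * n * w ≤ q * (x * w) := t3.trans (t4.trans ((mul_assoc q z i).le.trans t1))
    rw [mul_assoc] at this
    exact le_antisymm c (Nat.le_of_mul_le_mul_right (Nat.le_of_mul_le_mul_left this hq) hw)
  refine ⟨coe_sup_eq_mul_of_card _ _ e1, isCentrallyLarge_iff.mpr ⟨?_, ?_⟩, hX, fun B hB => ?_⟩
  · exact isCentralizerLarge_of_le (le_of_eq (hQm.symm.trans (by rw [hCR]; exact e2.symm)))
  · rw [hCR]; exact inf_le_right.trans le_sup_right
  · exact (hA.2 B hB).trans e3.ge

theorem isCentrallyLarge_sup_thompsonSubgroupA [Finite G] {Q : Subgroup G}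
    (hQ : Cfsg.IsCentrallyLarge Q) : Cfsg.IsCentrallyLarge (Q ⊔ Cfsg.thompsonSubgroupA G) := by
  obtain ⟨L, ⟨hL, hQL, hle⟩, hmax⟩ := Set.Finite.exists_maximal (Set.toFinite
      {L : Subgroup G | Cfsg.IsCentrallyLarge L ∧ Q ≤ L ∧ L ≤ Q ⊔ Cfsg.thompsonSubgroupA G})
    ⟨Q, hQ, le_rfl, le_sup_left⟩
  have hAL : Cfsg.thompsonSubgroupA G ≤ L := sSup_le fun A hA =>
    le_trans le_sup_right (hmax ⟨(sup_maxAbelian hL hA).2.1, hQL.trans le_sup_left,
      sup_le hle (le_trans (le_sSup hA) le_sup_right)⟩ le_sup_left)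
  rwa [le_antisymm (sup_le hQL hAL) hle]

theorem centralizer_thompsonCenter_le [Finite G] {L : Subgroup G} (hL : Cfsg.IsCentrallyLarge L)
    (hJL : Cfsg.thompsonSubgroupA G ≤ L) :
    Subgroup.centralizer ((Cfsg.thompsonSubgroupA G ⊓
      Subgroup.centralizer (Cfsg.thompsonSubgroupA G : Set G) : Subgroup G) : Set G) ≤ L := by
  obtain ⟨A, hA⟩ := exists_mem_maxAbelian G
  have hAJ : A ≤ Cfsg.thompsonSubgroupA G := le_sSup hA
  have h1 : Subgroup.centralizer (L : Set G) ≤ Subgroup.centralizer (Cfsg.thompsonSubgroupA G : Set G) :=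
    Subgroup.centralizer_le (SetLike.coe_subset_coe.mpr hJL)
  have h2 : Subgroup.centralizer (L : Set G) ≤ Cfsg.thompsonSubgroupA G := by
    refine le_trans (Subgroup.centralizer_le (SetLike.coe_subset_coe.mpr (hAJ.trans hJL))) ?_
    rw [centralizer_eq_of_mem_maxAbelian hA]
    exact hAJ
  refine le_trans (Subgroup.centralizer_le (SetLike.coe_subset_coe.mpr (le_inf h2 h1))) ?_
  exact (isCentralizerLarge_centralizer (isCentrallyLarge_iff.mp hL).1).2.le

end Cfsg.Agent.CLarge
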