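import Cfsg.Agent.Lib.CLarge.Basic
import Cfsg.Agent.Lib.Offender.Thompson
import Mathlib.GroupTheory.Nilpotent
import Mathlib.Algebra.Order.BigOperators.Group.Finset

/-!
Replacement for minimal centrally large subgroups: some minimal centrally large subgroup of a nilpotent
group is normalized by every minimal centrally large subgroup and every abelian subgroup of largest order.
-/

set_option autoImplicit false
open scoped Pointwise
open Subgroup

namespace Cfsg.Agent.CLarge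

variable {G : Type*} [Group G]

theorem centralizer_map_equiv (Q : Subgroup G) (e : G ≃* G) :
    centralizer ((Q.map e.toMonoidHom : Subgroup G) : Set G) =
      (centralizer (Q : Set G)).map e.toMonoidHom := by
  ext x
  constructor
  · intro hx
    refine ⟨e.symm x, fun q hq => ?_, e.apply_symm_apply x⟩
    have := congrArg e.symm (hx (e q) ⟨q, hq, rfl⟩)
    rwa [map_mul, map_mul, e.symm_apply_apply] at this
  · rintro ⟨c, hc, rfl⟩ _ ⟨q, hq, rfl⟩
    rw [← map_mul, ← map_mul, hc q hq]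

theorem isCentrallyLarge_map_equiv [Finite G] {Q : Subgroup G} (hQ : Cfsg.IsCentrallyLarge Q) (e : G ≃* G) :
    Cfsg.IsCentrallyLarge (Q.map e.toMonoidHom) := by
  rw [isCentrallyLarge_iff] at *
  exact ⟨isCentralizerLarge_map_equiv hQ.1 e, (centralizer_map_equiv Q e).le.trans (map_mono hQ.2)⟩

theorem isMinimalCentrallyLarge_map_equiv [Finite G] {Q : Subgroup G} (hQ : Cfsg.IsMinimalCentrallyLarge Q)
    (e : G ≃* G) : Cfsg.IsMinimalCentrallyLarge (Q.map e.toMonoidHom) := by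
  refine ⟨isCentrallyLarge_map_equiv hQ.1 e, fun R hR hRL => ?_⟩
  have hle : R.map e.symm.toMonoidHom ≤ Q := by
    rintro _ ⟨r, hr, rfl⟩
    obtain ⟨q, hq, hqr⟩ := hR hr
    rw [← hqr]
    show e.symm (e q) ∈ Q
    rwa [e.symm_apply_apply]
  refine eq_of_le_of_card_ge hR (le_of_eq ?_)
  rw [← hQ.2 _ hle (isCentrallyLarge_map_equiv hRL e.symm), map_map]
  exact congrArg (fun f => Nat.card ↥(R.map f)) (show e.toMonoidHom.comp e.symm.toMonoidHom = MonoidHom.id G from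
    MonoidHom.ext fun x => e.apply_symm_apply x) |>.trans (by rw [map_id])

theorem normalizer_le_normalizer_centralizer' (s : Set G) :
    normalizer s ≤ normalizer (centralizer s : Set G) := by
  intro g hg
  have key : ∀ g ∈ normalizer s, ∀ c ∈ centralizer s, g * c * g⁻¹ ∈ centralizer s := fun g hg c hc m hm => by
    have h1 : g⁻¹ * m * g⁻¹⁻¹ ∈ s := (mem_set_normalizer_iff.mp (inv_mem hg) m).mp hm
    calc m * (g * c * g⁻¹) = g * ((g⁻¹ * m * g⁻¹⁻¹) * c) * g⁻¹ := by group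
      _ = g * (c * (g⁻¹ * m * g⁻¹⁻¹)) * g⁻¹ := by rw [hc _ h1]
      _ = (g * c * g⁻¹) * m := by group
  refine mem_normalizer_iff.mpr fun c => ⟨key g hg c, fun h => ?_⟩
  have := key g⁻¹ (inv_mem hg) _ h
  rwa [show g⁻¹ * (g * c * g⁻¹) * g⁻¹⁻¹ = c by group] at this

/-- Itô: in a product of two abelian subgroups the mutual commutators commute. -/
theorem commute_commutators {A B : Subgroup G} (hA : A ≤ centralizer (A : Set G))
    (hB : B ≤ centralizer (B : Set G)) (hAB : ((A ⊔ B : Subgroup G) : Set G) = (A : Set G) * (B : Set G))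
    {a a₁ b b₁ : G} (ha : a ∈ A) (ha₁ : a₁ ∈ A) (hb : b ∈ B) (hb₁ : b₁ ∈ B) :
    Commute (a * b * a⁻¹ * b⁻¹) (a₁⁻¹ * b₁⁻¹ * a₁ * b₁) := by
  have split : ∀ w ∈ A ⊔ B, ∃ a ∈ A, ∃ b ∈ B, w = a * b := fun w hw => by
    obtain ⟨a, ha, b, hb, e⟩ : w ∈ (A : Set G) * (B : Set G) := hAB ▸ hw
    exact ⟨a, ha, b, hb, e.symm⟩
  have cA : ∀ u ∈ A, ∀ v ∈ A, u * v = v * u := fun u hu v hv => hA hv u hu
  have cB : ∀ u ∈ B, ∀ v ∈ B, u * v = v * u := fun u hu v hv => hB hv u hu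
  have mA : ∀ {u : G}, u ∈ A → u ∈ A ⊔ B := fun h => mem_sup_left h
  have mB : ∀ {u : G}, u ∈ B → u ∈ A ⊔ B := fun h => mem_sup_right h
  obtain ⟨a₃, ha₃, b₃, hb₃, e₃⟩ := split (b₁ * a * b₁⁻¹)
    (mul_mem (mul_mem (mB hb₁) (mA ha)) (inv_mem (mB hb₁)))
  obtain ⟨a₄, ha₄, b₄, hb₄, e₄⟩ := split ((a₁ * b * a₁⁻¹)⁻¹)
    (inv_mem (mul_mem (mul_mem (mA ha₁) (mB hb)) (inv_mem (mA ha₁))))
  set b₂ := b₄⁻¹ with hb₂def
  set a₂ := a₄⁻¹ with ha₂def
  have hb₂ : b₂ ∈ B := inv_mem hb₄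
  have ha₂ : a₂ ∈ A := inv_mem ha₄
  have e₂ : a₁ * b * a₁⁻¹ = b₂ * a₂ := by rw [hb₂def, ha₂def, ← mul_inv_rev, ← e₄, inv_inv]
  let c : G → G → G := fun u v => u * v * u⁻¹ * v⁻¹
  have k1 : ∀ u ∈ A, ∀ v ∈ B, ∀ w ∈ A, c u (v * w) = c u v := fun u hu v _ w hw => by
    show u * (v * w) * u⁻¹ * (v * w)⁻¹ = u * v * u⁻¹ * v⁻¹
    calc u * (v * w) * u⁻¹ * (v * w)⁻¹ = u * v * (w * u⁻¹) * w⁻¹ * v⁻¹ := by group
      _ = u * v * (u⁻¹ * w) * w⁻¹ * v⁻¹ := by rw [cA w hw _ (inv_mem hu)]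
      _ = _ := by group
  have k2 : ∀ u ∈ A, ∀ v ∈ B, ∀ w ∈ B, c (u * w) v = c u v := fun u _ v hv w hw => by
    show u * w * v * (u * w)⁻¹ * v⁻¹ = u * v * u⁻¹ * v⁻¹
    calc u * w * v * (u * w)⁻¹ * v⁻¹ = u * (w * v) * w⁻¹ * u⁻¹ * v⁻¹ := by group
      _ = u * (v * w) * w⁻¹ * u⁻¹ * v⁻¹ := by rw [cB w hw v hv]
      _ = _ := by group
  have cj : ∀ g u v : G, g * c u v * g⁻¹ = c (g * u * g⁻¹) (g * v * g⁻¹) := fun g u v => by
    show g * (u * v * u⁻¹ * v⁻¹) * g⁻¹ = _; simp only [c]; group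
  have hu : ∀ u ∈ A, a₁ * u * a₁⁻¹ = u := fun u hu => by rw [cA a₁ ha₁ u hu, mul_inv_cancel_right]
  have hv : ∀ v ∈ B, b₁ * v * b₁⁻¹ = v := fun v hv => by rw [cB b₁ hb₁ v hv, mul_inv_cancel_right]
  have p1 : b₁ * (a₁ * c a b * a₁⁻¹) * b₁⁻¹ = c a₃ b₂ := by
    rw [cj a₁, hu a ha, e₂, k1 a ha b₂ hb₂ a₂ ha₂, cj b₁, e₃, hv b₂ hb₂, k2 a₃ ha₃ b₂ hb₂ b₃ hb₃]
  have p2 : a₁ * (b₁ * c a b * b₁⁻¹) * a₁⁻¹ = c a₃ b₂ := by
    rw [cj b₁, hv b hb, e₃, k2 a₃ ha₃ b hb b₃ hb₃, cj a₁, hu a₃ ha₃, e₂, k1 a₃ ha₃ b₂ hb₂ a₂ ha₂]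
  show c a b * (a₁⁻¹ * b₁⁻¹ * a₁ * b₁) = (a₁⁻¹ * b₁⁻¹ * a₁ * b₁) * c a b
  calc c a b * (a₁⁻¹ * b₁⁻¹ * a₁ * b₁)
      = a₁⁻¹ * b₁⁻¹ * (b₁ * (a₁ * c a b * a₁⁻¹) * b₁⁻¹) * a₁ * b₁ := by group
    _ = a₁⁻¹ * b₁⁻¹ * (a₁ * (b₁ * c a b * b₁⁻¹) * a₁⁻¹) * a₁ * b₁ := by rw [p1, p2]
    _ = _ := by group

theorem sup_eq_mul_symm {A B : Subgroup G}
    (h : ((A ⊔ B : Subgroup G) : Set G) = (A : Set G) * (B : Set G)) :
    ∀ w ∈ A ⊔ B, ∃ b ∈ B, ∃ a ∈ A, w = b * a := fun w hw => by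
  obtain ⟨a, ha, b, hb, e⟩ : w⁻¹ ∈ (A : Set G) * (B : Set G) := h ▸ inv_mem hw
  exact ⟨b⁻¹, inv_mem hb, a⁻¹, inv_mem ha, by rw [← mul_inv_rev, (show a * b = w⁻¹ from e), inv_inv]⟩

/-- Two minimal centrally large subgroups. -/
theorem pair_facts [Finite G] {Q R : Subgroup G} (hQ : Cfsg.IsMinimalCentrallyLarge Q)
    (hR : Cfsg.IsCentrallyLarge R) :
    Q = (Q ⊓ R) ⊔ centralizer (Q : Set G) ∧
      (Q ⊓ R) ⊓ centralizer ((Q ⊓ R : Subgroup G) : Set G) ≤ centralizer (Q : Set G) := by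
  obtain ⟨hQm, hZQ⟩ := isCentrallyLarge_iff.mp hQ.1
  obtain ⟨hRm, hZR⟩ := isCentrallyLarge_iff.mp hR
  obtain ⟨-, -, -, hI, -, hCI⟩ := chermakDelgado hQm hRm
  obtain ⟨hZm, hCC⟩ := isCentralizerLarge_centralizer hQm
  set Z := centralizer (Q : Set G)
  obtain ⟨-, -, hS, -⟩ := chermakDelgado hI hZm
  have hle : (Q ⊓ R) ⊔ Z ≤ Q := sup_le inf_le_left hZQ
  have hCL : Cfsg.IsCentrallyLarge ((Q ⊓ R) ⊔ Z) := by
    refine isCentrallyLarge_iff.mpr ⟨hS, ?_⟩
    rw [centralizer_sup, hCC, hCI]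
    intro x hx
    obtain ⟨z, hz, w, hw, rfl⟩ : x ∈ (Z : Set G) * (centralizer (R : Set G) : Set G) := by
      obtain ⟨-, -, -, -, hprod, -⟩ := chermakDelgado hQm hRm
      exact hprod ▸ hx.1
    refine mul_mem (mem_sup_right hz) (mem_sup_left ⟨?_, hZR hw⟩)
    have := Q.mul_mem (Q.inv_mem (hZQ hz)) hx.2
    rwa [inv_mul_cancel_left] at this
  have hEq := (hQ.2 _ hle hCL).symm
  refine ⟨hEq, fun x hx => ?_⟩
  have h1 : (Q ⊓ R) ⊔ Z ≤ centralizer ({x} : Set G) := by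
    refine sup_le (fun y hy => mem_centralizer_singleton_iff.mpr (hx.2 y hy)) ?_
    intro y hy
    exact mem_centralizer_singleton_iff.mpr (hy x hx.1.1).symm
  intro q hq
  exact mem_centralizer_singleton_iff.mp (h1 (hEq ▸ hq))

theorem pair_card [Finite G] {Q R : Subgroup G} (hQ : Cfsg.IsMinimalCentrallyLarge Q)
    (hR : Cfsg.IsMinimalCentrallyLarge R) :
    (Q ⊓ R) ⊓ centralizer ((Q ⊓ R : Subgroup G) : Set G) =
        centralizer (Q : Set G) ⊓ centralizer (R : Set G) ∧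
      Nat.card Q * Nat.card ↥(centralizer (Q : Set G) ⊓ centralizer (R : Set G)) =
        Nat.card ↥(Q ⊓ R) * Nat.card ↥(centralizer (Q : Set G)) ∧
      Nat.card Q = Nat.card R := by
  have hI : (Q ⊓ R) ⊓ centralizer ((Q ⊓ R : Subgroup G) : Set G) =
      centralizer (Q : Set G) ⊓ centralizer (R : Set G) := by
    refine le_antisymm (le_inf (pair_facts hQ hR.1).2 (inf_comm Q R ▸ (pair_facts hR hQ.1).2)) ?_
    exact le_inf (inf_le_inf (isCentrallyLarge_iff.mp hQ.1).2 (isCentrallyLarge_iff.mp hR.1).2)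
      (inf_le_left.trans (centralizer_le (SetLike.coe_subset_coe.mpr inf_le_left)))
  have key : ∀ Q' R' : Subgroup G, Cfsg.IsMinimalCentrallyLarge Q' → Cfsg.IsCentrallyLarge R' →
      (Q' ⊓ R') ⊓ centralizer (Q' : Set G) = (Q' ⊓ R') ⊓ centralizer ((Q' ⊓ R' : Subgroup G) : Set G) ∧
      Nat.card Q' * Nat.card ↥((Q' ⊓ R') ⊓ centralizer (Q' : Set G)) =
        Nat.card ↥(Q' ⊓ R') * Nat.card ↥(centralizer (Q' : Set G)) := by
    intro Q' R' h1 h2
    obtain ⟨e, h3⟩ := pair_facts h1 h2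
    refine ⟨le_antisymm (inf_le_inf_left _ (centralizer_le (SetLike.coe_subset_coe.mpr inf_le_left)))
      (le_inf inf_le_left h3), ?_⟩
    have hn : Q' ⊓ R' ≤ normalizer (centralizer (Q' : Set G) : Set G) :=
      inf_le_left.trans (le_normalizer.trans (normalizer_le_normalizer_centralizer' _))
    have := Offender.card_sup_mul_card_inf hn
    rwa [← e] at this
  obtain ⟨a1, a2⟩ := key Q R hQ hR.1
  obtain ⟨b1, b2⟩ := key R Q hR hQ.1
  rw [inf_comm R Q] at b1 b2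
  rw [a1, hI] at a2
  rw [b1, hI] at b2
  refine ⟨hI, a2, ?_⟩
  have hm : Nat.card Q * Nat.card ↥(centralizer (Q : Set G)) = Nat.card R * Nat.card ↥(centralizer (R : Set G)) :=
    (isCentrallyLarge_iff.mp hQ.1).1.trans (isCentrallyLarge_iff.mp hR.1).1.symm
  set i := Nat.card ↥(centralizer (Q : Set G) ⊓ centralizer (R : Set G))
  set k := Nat.card ↥(Q ⊓ R)
  have hi : 0 < i := Nat.card_pos
  have hk : 0 < k := Nat.card_pos
  have h2 : Nat.card Q * Nat.card Q * (i * k) = Nat.card R * Nat.card R * (i * k) := by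
    calc Nat.card Q * Nat.card Q * (i * k) = Nat.card Q * k * (Nat.card Q * i) := by ring
      _ = (Nat.card Q * Nat.card ↥(centralizer (Q : Set G))) * (k * k) := by rw [a2]; ring
      _ = (Nat.card R * Nat.card ↥(centralizer (R : Set G))) * (k * k) := by rw [hm]
      _ = Nat.card R * k * (k * Nat.card ↥(centralizer (R : Set G))) := by ring
      _ = _ := by rw [← b2]; ring
  exact Nat.mul_self_inj.mp (Nat.eq_of_mul_eq_mul_right (Nat.mul_pos hi hk) h2)

/-- How deep the centre of `Q` sits in the upper central series. -/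
noncomputable def depth [Group.IsNilpotent G] (Q : Subgroup G) : ℕ :=
  ∑ j ∈ Finset.range (Group.nilpotencyClass G + 1), Nat.card ↥(centralizer (Q : Set G) ⊓ Subgroup.upperCentralSeries G j)

/-- Replacement. -/
theorem exists_depth_lt [Finite G] [Group.IsNilpotent G] {Q T : Subgroup G}
    (hQ : Cfsg.IsMinimalCentrallyLarge Q) (hT : T ≤ centralizer (T : Set G))
    (hprod : ((centralizer (Q : Set G) ⊔ T : Subgroup G) : Set G) = (centralizer (Q : Set G) : Set G) * (T : Set G))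
    (hTn : ¬ T ≤ normalizer (centralizer (Q : Set G) : Set G)) :
    ∃ Q' : Subgroup G, Cfsg.IsMinimalCentrallyLarge Q' ∧ depth Q < depth Q' := by
  classical
  obtain ⟨hQm, hZQ⟩ := isCentrallyLarge_iff.mp hQ.1
  obtain ⟨-, hCC⟩ := isCentralizerLarge_centralizer hQm
  set A := centralizer (Q : Set G) with hA
  have hAab : A ≤ centralizer (A : Set G) := hZQ.trans hCC.ge
  -- choose `x`
  obtain ⟨x, hxT, hxA, hxN⟩ : ∃ x ∈ T, x ∉ normalizer (A : Set G) ∧
      x ∈ normalizer (((A ⊔ T) ⊓ normalizer (A : Set G) : Subgroup G) : Set G) := by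
    set W := A ⊔ T with hW
    set N := W ⊓ normalizer (A : Set G) with hN
    have hlt : N.subgroupOf W < ⊤ := lt_top_iff_ne_top.mpr fun h => hTn fun t ht =>
      ((subgroupOf_eq_top.mp h) (mem_sup_right ht : t ∈ W)).2
    obtain ⟨⟨w, hwW⟩, hw, hwN⟩ := SetLike.exists_of_lt (normalizerCondition_of_isNilpotent _ hlt)
    obtain ⟨a, ha, t, ht, rfl⟩ : w ∈ (A : Set G) * (T : Set G) := hprod ▸ hwW
    have haN : a ∈ N := ⟨mem_sup_left ha, le_normalizer ha⟩
    have hat : a * t ∈ normalizer (N : Set G) := by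
      refine mem_normalizer_iff.mpr fun n => ?_
      have hmemW : ∀ {n : G}, (a * t) * n * (a * t)⁻¹ ∈ W → n ∈ W := fun {n} h => by
        have := W.mul_mem (W.mul_mem (W.inv_mem hwW) h) hwW
        simpa [mul_assoc] using this
      constructor
      · intro hn
        exact (mem_normalizer_iff.mp hw ⟨n, hn.1⟩).mp hn
      · intro hn
        exact (mem_normalizer_iff.mp hw ⟨n, hmemW hn.1⟩).mpr hn
    refine ⟨t, ht, fun h => hwN ⟨hwW, mul_mem (le_normalizer ha) h⟩, ?_⟩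
    have := mul_mem (inv_mem (le_normalizer haN)) hat
    rwa [inv_mul_cancel_left] at this
  set N := (A ⊔ T) ⊓ normalizer (A : Set G) with hN
  -- the conjugate
  set Q₁ := Q.map (MulAut.conj x).toMonoidHom with hQ₁def
  have hQ₁ : Cfsg.IsMinimalCentrallyLarge Q₁ := isMinimalCentrallyLarge_map_equiv hQ _
  set A₁ := centralizer (Q₁ : Set G) with hA₁def
  have hA₁ : A₁ = A.map (MulAut.conj x).toMonoidHom := centralizer_map_equiv Q _
  have hAN : A ≤ N := le_inf le_sup_left le_normalizer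
  have hA₁N : A₁ ≤ normalizer (A : Set G) := by
    rw [hA₁]
    rintro _ ⟨a, ha, rfl⟩
    exact ((mem_normalizer_iff.mp hxN a).mp (hAN ha)).2
  have hxmem : ∀ a ∈ A, x * a * x⁻¹ ∈ A₁ := fun a ha => by rw [hA₁]; exact ⟨a, ha, rfl⟩
  obtain ⟨hI, hcard, -⟩ := pair_card hQ hQ₁
  set I := A ⊓ A₁ with hIdef
  set K := Q ⊓ Q₁ with hKdef
  obtain ⟨-, -, -, -, -, hCK⟩ := chermakDelgado hQm (isCentrallyLarge_iff.mp hQ₁.1).1
  set V := A ⊔ A₁ with hV
  -- the new abelian subgroup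
  set S : Set G := (fun a => a⁻¹ * (x * a * x⁻¹)) '' (A : Set G) with hS
  have hSab : ∀ u ∈ S, ∀ v ∈ S, u * v = v * u := by
    rintro _ ⟨a, ha, rfl⟩ _ ⟨a', ha', rfl⟩
    have := commute_commutators hAab hT hprod (inv_mem ha) ha' hxT (inv_mem hxT)
    simpa only [inv_inv, mul_assoc] using this.eq
  have hIV : V ≤ centralizer (I : Set G) :=
    sup_le (hAab.trans (centralizer_le (SetLike.coe_subset_coe.mpr inf_le_left)))
      (((isCentrallyLarge_iff.mp hQ₁.1).2.trans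
        (isCentralizerLarge_centralizer (isCentrallyLarge_iff.mp hQ₁.1).1).2.ge).trans
          (centralizer_le (SetLike.coe_subset_coe.mpr inf_le_right)))
  have hSV : closure S ≤ V := by
    refine (closure_le _).mpr ?_
    rintro _ ⟨a, ha, rfl⟩
    exact mul_mem (mem_sup_left (inv_mem ha)) (mem_sup_right (hxmem a ha))
  set B := closure S ⊔ I with hB
  have hBV : B ≤ V := sup_le hSV (inf_le_left.trans le_sup_left)
  have hBab : B ≤ centralizer (B : Set G) := by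
    have h1 : closure S ≤ centralizer ((closure S : Subgroup G) : Set G) := by
      refine (closure_le _).mpr fun u hu => ?_
      have h2 : closure S ≤ centralizer ({u} : Set G) :=
        (closure_le _).mpr fun v hv => mem_centralizer_singleton_iff.mpr (hSab v hv u hu)
      exact fun v hv => mem_centralizer_singleton_iff.mp (h2 hv)
    rw [hB, centralizer_sup]
    exact le_inf (sup_le h1 (le_centralizer_iff.mp (hSV.trans hIV)))
      (sup_le (hSV.trans hIV) ((inf_le_left.trans le_sup_left).trans hIV))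
  have hVB : B ⊔ A = V := by
    refine le_antisymm (sup_le hBV le_sup_left) (sup_le le_sup_right ?_)
    rw [hA₁]
    rintro _ ⟨a, ha, rfl⟩
    show x * a * x⁻¹ ∈ B ⊔ A
    rw [show x * a * x⁻¹ = a * (a⁻¹ * (x * a * x⁻¹)) by group]
    exact mul_mem (mem_sup_right ha) (mem_sup_left (mem_sup_left (subset_closure ⟨a, ha, rfl⟩)))
  have hBA : B ⊓ A = I := by
    refine le_antisymm (fun z hz => ⟨hz.2, ?_⟩) (le_inf le_sup_right inf_le_left)
    have h1 : B ⊔ A ≤ centralizer ({z} : Set G) := sup_le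
      (fun y hy => mem_centralizer_singleton_iff.mpr (hBab hz.1 y hy))
      (fun y hy => mem_centralizer_singleton_iff.mpr (hAab hz.2 y hy))
    have hzC : z ∈ centralizer (A₁ : Set G) := fun y hy =>
      mem_centralizer_singleton_iff.mp (h1 (hVB.symm ▸ mem_sup_right hy))
    rw [(isCentralizerLarge_centralizer (isCentrallyLarge_iff.mp hQ₁.1).1).2] at hzC
    have hzI : z ∈ K ⊓ centralizer ((K : Subgroup G) : Set G) :=
      ⟨⟨hZQ hz.2, hzC⟩, centralizer_le (SetLike.coe_subset_coe.mpr inf_le_left) hz.2⟩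
    rw [hI] at hzI
    exact hzI.2
  have hcardB : Nat.card B = Nat.card A := by
    have h1 := Offender.card_sup_mul_card_inf (H := B) (N := A) (hBV.trans (sup_le le_normalizer hA₁N))
    rw [hVB, hBA] at h1
    have h2 := Offender.card_sup_mul_card_inf (H := A₁) (N := A) hA₁N
    have hc : Nat.card A₁ = Nat.card A := by rw [hA₁, card_map_of_injective (MulAut.conj x).injective]
    rw [sup_comm A₁ A, inf_comm A₁ A, hc] at h2
    exact Nat.eq_of_mul_eq_mul_right (Nat.card_pos (α := A)) (h1.symm.trans h2)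
  -- the new subgroup
  set Q' := K ⊔ B with hQ'
  have hBK : B ≤ centralizer (K : Set G) := hBV.trans hCK.ge
  have hKB : K ⊓ B = I := by
    refine le_antisymm ((inf_le_inf_left K hBK).trans hI.le) (le_inf ?_ le_sup_right)
    exact hI.ge.trans inf_le_left
  have hcardQ' : Nat.card Q' = Nat.card Q := by
    have h1 := Offender.card_sup_mul_card_inf (H := K) (N := B)
      ((le_centralizer_iff.mp hBK).trans (centralizer_le_normalizer _))
    rw [← hQ', hKB, hcardB] at h1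
    exact Nat.eq_of_mul_eq_mul_right (Nat.card_pos (α := I)) (h1.trans hcard.symm)
  have hCQ' : B ≤ centralizer (Q' : Set G) := by
    rw [hQ', centralizer_sup]; exact le_inf hBK hBab
  have hQ'm : Cfsg.IsCentralizerLarge Q' := by
    refine isCentralizerLarge_of_le ?_
    rw [← hQm, hcardQ', ← hA, ← hcardB]
    exact Nat.mul_le_mul_left _ (card_le_of_le hCQ')
  have hCQ'eq : centralizer (Q' : Set G) = B := by
    refine (eq_of_le_of_card_ge hCQ' ?_).symm
    refine Nat.le_of_mul_le_mul_left (le_of_eq ?_) (Nat.card_pos (α := Q'))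
    rw [hQ'm, hcardQ', hcardB]
    exact hQm.symm
  have hQ'CL : Cfsg.IsCentrallyLarge Q' :=
    isCentrallyLarge_iff.mpr ⟨hQ'm, hCQ'eq ▸ le_sup_right⟩
  obtain ⟨R, hRle, hR⟩ := exists_isMinimalCentrallyLarge_le hQ'CL
  have hRQ : R = Q' := eq_of_le_of_card_ge hRle (by rw [hcardQ']; exact (pair_card hQ hR).2.2.le)
  refine ⟨Q', hRQ ▸ hR, ?_⟩
  -- depth
  unfold depth
  rw [hCQ'eq, ← hA]
  set U := Subgroup.upperCentralSeries G
  have step : ∀ j, Nat.card ↥(A ⊓ U (j + 1)) * Nat.card ↥(I ⊓ U j) ≤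
      Nat.card ↥(I ⊓ U (j + 1)) * Nat.card ↥(B ⊓ U j) := by
    intro j
    let ψ : ↥(A ⊓ U (j + 1)) × ↥(I ⊓ U j) → ↥(B ⊓ U j) := fun ai =>
      ⟨(ai.1 : G)⁻¹ * (x * ai.1 * x⁻¹) * ai.2,
        B.mul_mem (mem_sup_left (subset_closure ⟨ai.1, ai.1.2.1, rfl⟩)) (mem_sup_right ai.2.2.1),
        (U j).mul_mem (by
          have := Subgroup.mem_upperCentralSeries_succ_iff.mp (inv_mem ai.1.2.2) x
          simpa only [commutatorElement_def, inv_inv, mul_assoc] using this) ai.2.2.2⟩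
    have := Fintype.ofFinite ↥(A ⊓ U (j + 1))
    have := Fintype.ofFinite ↥(I ⊓ U j)
    have := Fintype.ofFinite ↥(B ⊓ U j)
    have := Fintype.ofFinite ↥(I ⊓ U (j + 1))
    have hfib : ∀ y ∈ (Finset.univ.image ψ), (Finset.univ.filter fun ai => ψ ai = y).card ≤
        Fintype.card ↥(I ⊓ U (j + 1)) := by
      intro y hy
      obtain ⟨⟨a₀, i₀⟩, -, rfl⟩ := Finset.mem_image.mp hy
      have hUn : (U (j + 1)).Normal := inferInstance
      have key : ∀ ai : ↥(A ⊓ U (j + 1)) × ↥(I ⊓ U j), ψ ai = ψ (a₀, i₀) →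
          x * ((ai.1 : G) * (a₀ : G)⁻¹) * x⁻¹ ∈ I ⊓ U (j + 1) := by
        rintro ⟨⟨a, haA, haU⟩, ⟨i, hiI, hiU⟩⟩ he
        have e : a⁻¹ * (x * a * x⁻¹) * i = (a₀ : G)⁻¹ * (x * a₀ * x⁻¹) * i₀ := congrArg Subtype.val he
        set X := x * a * x⁻¹
        set Y := x * (a₀ : G) * x⁻¹
        have hY : Y ∈ V := mem_sup_right (hxmem _ a₀.2.1)
        have hi' : (i₀ : G) * i⁻¹ ∈ I := I.mul_mem i₀.2.1 (I.inv_mem hiI)
        have e2 : x * (a * (a₀ : G)⁻¹) * x⁻¹ = a * (a₀ : G)⁻¹ * ((i₀ : G) * i⁻¹) := by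
          calc x * (a * (a₀ : G)⁻¹) * x⁻¹ = a * (a⁻¹ * X * i) * i⁻¹ * Y⁻¹ := by simp only [X, Y]; group
            _ = a * (a₀ : G)⁻¹ * (Y * ((i₀ : G) * i⁻¹)) * Y⁻¹ := by rw [e]; group
            _ = a * (a₀ : G)⁻¹ * (((i₀ : G) * i⁻¹) * Y) * Y⁻¹ := by rw [(hIV hY _ hi').symm]
            _ = _ := by group
        refine ⟨⟨?_, hxmem _ (A.mul_mem haA (A.inv_mem a₀.2.1))⟩,
          hUn.conj_mem _ ((U (j + 1)).mul_mem haU ((U (j + 1)).inv_mem a₀.2.2)) x⟩
        show x * (a * (a₀ : G)⁻¹) * x⁻¹ ∈ A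
        rw [e2]
        exact A.mul_mem (A.mul_mem haA (A.inv_mem a₀.2.1)) hi'.1
      rw [← Fintype.card_coe]
      refine Fintype.card_le_of_injective (fun ai => ⟨_, key ai.1 (Finset.mem_filter.mp ai.2).2⟩) ?_
      rintro ⟨⟨a, i⟩, h1⟩ ⟨⟨a', i'⟩, h2⟩ he
      have ha : (a : G) = a' := by
        have := congrArg Subtype.val he
        simpa using this
      have ha' : a = a' := Subtype.ext ha
      subst ha'
      have hi : (i : G) = i' := by
        have e1 := congrArg Subtype.val (Finset.mem_filter.mp h1).2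
        have e2 := congrArg Subtype.val (Finset.mem_filter.mp h2).2
        exact mul_left_cancel (e1.trans e2.symm)
      exact Subtype.ext (Prod.ext rfl (Subtype.ext hi))
    have h1 := Finset.card_le_mul_card_image (Finset.univ) _ hfib
    rw [Finset.card_univ, Fintype.card_prod, ← Nat.card_eq_fintype_card, ← Nat.card_eq_fintype_card,
      ← Nat.card_eq_fintype_card] at h1
    refine h1.trans (Nat.mul_le_mul_left _ ?_)
    rw [Nat.card_eq_fintype_card]
    exact Finset.card_le_univ _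
  have mono : ∀ j, U j ≤ U (j + 1) := fun j => Subgroup.upperCentralSeries_mono G (Nat.le_succ j)
  have sub : ∀ j, Nat.card ↥(A ⊓ U j) * Nat.card ↥(I ⊓ U (j + 1)) ≤
      Nat.card ↥((A ⊓ U j) ⊔ (I ⊓ U (j + 1))) * Nat.card ↥(I ⊓ U j) := by
    intro j
    have e : (A ⊓ U j) ⊓ (I ⊓ U (j + 1)) = I ⊓ U j :=
      le_antisymm (fun z hz => ⟨hz.2.1, hz.1.2⟩) (le_inf (inf_le_inf_right _ inf_le_left) (inf_le_inf_left _ (mono j)))
    exact e ▸ card_mul_card_le (A ⊓ U j) (I ⊓ U (j + 1))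
  have hsup : ∀ j, (A ⊓ U j) ⊔ (I ⊓ U (j + 1)) ≤ A ⊓ U (j + 1) := fun j =>
    sup_le (inf_le_inf_left _ (mono j)) (inf_le_inf_right _ inf_le_left)
  have ineq : ∀ j, Nat.card ↥(A ⊓ U j) ≤ Nat.card ↥(B ⊓ U j) ∧
      ((A ⊓ U j) ⊔ (I ⊓ U (j + 1)) ≠ A ⊓ U (j + 1) → Nat.card ↥(A ⊓ U j) < Nat.card ↥(B ⊓ U j)) := by
    intro j
    have hpos : 0 < Nat.card ↥(I ⊓ U (j + 1)) := Nat.card_pos
    refine ⟨Nat.le_of_mul_le_mul_left ?_ hpos, fun hne => Nat.lt_of_mul_lt_mul_left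
      (a := Nat.card ↥(I ⊓ U (j + 1))) ?_⟩
    · rw [mul_comm]
      exact ((sub j).trans (Nat.mul_le_mul_right _ (card_le_of_le (hsup j)))).trans (step j)
    · rw [mul_comm]
      refine lt_of_le_of_lt (sub j) (lt_of_lt_of_le ?_ (step j))
      exact Nat.mul_lt_mul_of_pos_right (lt_of_le_of_ne (card_le_of_le (hsup j))
        fun h => hne (eq_of_le_of_card_ge (hsup j) h.ge)) Nat.card_pos
  refine Finset.sum_lt_sum (fun j _ => (ineq j).1) ?_
  by_contra hcon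
  push Not at hcon
  have hall : ∀ j ≤ Group.nilpotencyClass G + 1, A ⊓ U j ≤ I := by
    intro j
    induction j with
    | zero =>
      intro _
      rw [show U 0 = ⊥ from Subgroup.upperCentralSeries_zero G, inf_bot_eq]
      exact bot_le
    | succ j ih =>
      intro hj
      by_cases he : (A ⊓ U j) ⊔ (I ⊓ U (j + 1)) = A ⊓ U (j + 1)
      · rw [← he]; exact sup_le (ih (by omega)) inf_le_left
      · exact absurd ((ineq j).2 he) (not_lt.mpr (hcon j (Finset.mem_range.mpr (by omega))))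
  have htop : U (Group.nilpotencyClass G + 1) = ⊤ :=
    top_le_iff.mp (le_trans (le_of_eq (Subgroup.upperCentralSeries_nilpotencyClass (G := G)).symm)
      (Subgroup.upperCentralSeries_mono G (Nat.le_succ _)))
  have hAA₁ : A ≤ A₁ := by
    have := hall _ le_rfl
    rw [htop, inf_top_eq] at this
    exact this.trans inf_le_right
  refine hxA (mem_normalizer_iff.mpr fun a => ?_)
  have heq : A₁ = A := by
    refine (eq_of_le_of_card_ge hAA₁ ?_).symm
    rw [hA₁, card_map_of_injective (MulAut.conj x).injective]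
  rw [hA₁] at heq
  constructor
  · exact fun ha => heq ▸ ⟨a, ha, rfl⟩
  · intro ha
    rw [← heq] at ha
    obtain ⟨b, hb, hbe⟩ := ha
    exact (MulAut.conj x).injective hbe ▸ hb

end Cfsg.Agent.CLarge
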